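import Mathlib
import Cfsg.Agent.Helper48.CoprimeGen

/-!
# S4316 (helper71), piece (G5): in an elementary abelian group of order `q^3` every element
`a ≠ 1` avoids some subgroup of order `q^2`.
-/

set_option autoImplicit false
set_option linter.style.haveILetI false

namespace Cfsg.Agent.Helper29.GS

/-- a complement of `⟨a⟩` in an elementary abelian group of order `q ^ 3` -/
theorem exists_compl_aux {G : Type*} [CommGroup G] [Finite G] {q : ℕ} [Fact q.Prime]
    (hexp : ∀ g : G, g ^ q = 1) (hG : Nat.card G = q ^ 3) {a : G} (ha1 : a ≠ 1) :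
    ∃ E : Subgroup G, Nat.card E = q ^ 2 ∧ ∀ e ∈ E, e ≠ 1 → e ∉ Subgroup.zpowers a := by
  have hq : q.Prime := Fact.out
  have hV : ∀ v : Additive G, q • v = 0 := fun v => congrArg Additive.ofMul (hexp v.toMul)
  haveI : Module (ZMod q) (Additive G) := AddCommGroup.zmodModule hV
  have hv0 : Additive.ofMul a ≠ 0 := fun e => ha1 (congrArg Additive.toMul e)
  obtain ⟨W, hWdef⟩ : ∃ W : Submodule (ZMod q) (Additive G),
      W = Submodule.span (ZMod q) {Additive.ofMul a} := ⟨_, rfl⟩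
  have hcW : Nat.card ↥W = q := by
    rw [hWdef, ← Nat.card_congr
      (LinearEquiv.toSpanNonzeroSingleton (ZMod q) (Additive G) (Additive.ofMul a) hv0).toEquiv,
      Nat.card_zmod]
  have haW : Additive.ofMul a ∈ W := by
    rw [hWdef]
    exact Submodule.mem_span_singleton_self _
  obtain ⟨W', hW'⟩ := Submodule.exists_isCompl W
  have hcV : Nat.card (Additive G) = q ^ 3 := hG
  have hprod := Nat.card_congr (Submodule.prodEquivOfIsCompl W W' hW').toEquiv
  rw [Nat.card_prod, hcW, hcV] at hprod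
  have hcW' : Nat.card ↥W' = q ^ 2 := by
    have h3 : q ^ 3 = q * q ^ 2 := by ring
    rw [h3] at hprod
    exact Nat.eq_of_mul_eq_mul_left hq.pos hprod
  let E : Subgroup G :=
    { carrier := {g | Additive.ofMul g ∈ W'}
      mul_mem' := fun {x y} hx hy => W'.add_mem hx hy
      one_mem' := W'.zero_mem
      inv_mem' := fun {x} hx => W'.neg_mem hx }
  refine ⟨E, ?_, ?_⟩
  · rw [← hcW']
    exact Nat.card_congr (Equiv.subtypeEquiv Additive.ofMul (fun g => Iff.rfl))
  · intro e he he1 hz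
    obtain ⟨k, rfl⟩ := Subgroup.mem_zpowers_iff.mp hz
    have h1 : Additive.ofMul (a ^ k) ∈ W := zsmul_mem haW k
    have h2 : Additive.ofMul (a ^ k) ∈ W' := he
    have h3 := (Submodule.disjoint_def.mp hW'.disjoint) _ h1 h2
    exact he1 (congrArg Additive.toMul h3)

theorem exists_isEA2_disjoint {Γ : Type*} [Group Γ] [Finite Γ] {q : ℕ} [Fact q.Prime]
    (A : Subgroup Γ) (hcomm : ∀ x ∈ A, ∀ y ∈ A, x * y = y * x) (hexp : ∀ a ∈ A, a ^ q = 1)
    (hA : Nat.card A = q ^ 3) {a : Γ} (ha : a ∈ A) (ha1 : a ≠ 1) :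
    ∃ E : Subgroup Γ, E ≤ A ∧ Cfsg.Agent.Helper48.IsEA2 q E ∧
      ∀ e ∈ E, e ≠ 1 → e ∉ Subgroup.zpowers a := by
  letI : CommGroup ↥A := { (inferInstance : Group ↥A) with
    mul_comm := fun x y => Subtype.ext (hcomm x.1 x.2 y.1 y.2) }
  obtain ⟨E, hEc, hE⟩ := exists_compl_aux (G := ↥A) (q := q)
    (fun g => Subtype.ext (hexp g.1 g.2)) hA (a := ⟨a, ha⟩)
    (fun e => ha1 (congrArg Subtype.val e))
  refine ⟨E.map A.subtype, Subgroup.map_subtype_le E, ⟨?_, ?_, ?_⟩, ?_⟩
  · intro x hx y hy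
    exact hcomm x (Subgroup.map_subtype_le E hx) y (Subgroup.map_subtype_le E hy)
  · intro x hx
    exact hexp x (Subgroup.map_subtype_le E hx)
  · rw [← hEc]
    exact Nat.card_congr
      (E.equivMapOfInjective A.subtype A.subtype_injective).symm.toEquiv
  · rintro e ⟨e', he', rfl⟩ he1 hz
    apply hE e' he' (fun h => he1 (by rw [h]; rfl))
    obtain ⟨k, hk⟩ := Subgroup.mem_zpowers_iff.mp hz
    exact Subgroup.mem_zpowers_iff.mpr ⟨k, Subtype.ext (by simpa using hk)⟩

end Cfsg.Agent.Helper29.GS
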