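import Mathlib

/-!
# S4316 (helper71), piece (G3): two subgroups of order `≥ q^2` of a group of order `q^3` meet
non-trivially.
-/

set_option autoImplicit false

namespace Cfsg.Agent.Helper29.GS

theorem exists_common_ne_one {Γ : Type*} [Group Γ] [Finite Γ] {q : ℕ} (hq : q.Prime)
    (A S T : Subgroup Γ) (hA : Nat.card A = q ^ 3) (hS : S ≤ A) (hT : T ≤ A)
    (hSc : q ^ 2 ≤ Nat.card S) (hTc : q ^ 2 ≤ Nat.card T) :
    ∃ f : Γ, f ∈ S ∧ f ∈ T ∧ f ≠ 1 := by
  by_contra hcon
  push Not at hcon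
  have hdis : Disjoint S T := by
    rw [Subgroup.disjoint_def]
    intro x hxS hxT
    exact hcon x hxS hxT
  have hinj := Subgroup.mul_injective_of_disjoint hdis
  let φ : S × T → A := fun g => ⟨(g.1 : Γ) * g.2, A.mul_mem (hS g.1.2) (hT g.2.2)⟩
  have hφ : Function.Injective φ := by
    intro g g' h
    apply hinj
    exact congrArg Subtype.val h
  have hle := Nat.card_le_card_of_injective φ hφ
  rw [Nat.card_prod, hA] at hle
  have h2 : 2 ≤ q := hq.two_le
  have h3 : q ^ 2 * q ^ 2 ≤ q ^ 3 := le_trans (Nat.mul_le_mul hSc hTc) hle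
  have h4 : q ^ 3 < q ^ 2 * q ^ 2 := by
    rw [← pow_add]
    exact Nat.pow_lt_pow_right h2 (by norm_num)
  omega

end Cfsg.Agent.Helper29.GS
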