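import Mathlib

/-!
# S4316 (helper71), piece (G4): a subgroup of exponent `q` and order `≥ q^2` contains an
independent pair.
-/

set_option autoImplicit false

namespace Cfsg.Agent.Helper29.GS

theorem exists_pair {Γ : Type*} [Group Γ] [Finite Γ] {q : ℕ} (hq : q.Prime) (S : Subgroup Γ)
    (hexp : ∀ s ∈ S, s ^ q = 1) (hSc : q ^ 2 ≤ Nat.card S) :
    ∃ a ∈ S, ∃ b ∈ S, b ≠ 1 ∧ ∀ i : ℕ, a * b ^ i ≠ 1 := by
  have h2 : 2 ≤ q := hq.two_le
  have hqq : q < q ^ 2 := by nlinarith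
  have h1 : 1 < Nat.card S := by omega
  have hnt : Nontrivial S := Finite.one_lt_card_iff_nontrivial.mp h1
  obtain ⟨⟨b, hbS⟩, hb⟩ := exists_ne (1 : S)
  have hb1 : b ≠ 1 := fun e => hb (Subtype.ext e)
  have hzle : Subgroup.zpowers b ≤ S := by
    rw [Subgroup.zpowers_le]
    exact hbS
  have hzc : Nat.card (Subgroup.zpowers b) ≤ q := by
    rw [Nat.card_zpowers]
    exact Nat.le_of_dvd hq.pos (orderOf_dvd_of_pow_eq_one (hexp b hbS))
  have hex : ∃ a ∈ S, a ∉ Subgroup.zpowers b := by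
    by_contra hcon
    push Not at hcon
    have hle : S ≤ Subgroup.zpowers b := fun a ha => hcon a ha
    have := Subgroup.card_le_of_le hle
    omega
  obtain ⟨a, haS, haz⟩ := hex
  refine ⟨a, haS, b, hbS, hb1, fun i hi => haz ?_⟩
  have ha : a = (b ^ i)⁻¹ := eq_inv_of_mul_eq_one_left hi
  rw [ha]
  exact inv_mem (Subgroup.npow_mem_zpowers b i)

end Cfsg.Agent.Helper29.GS
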